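import Mathlib
import Cfsg.Agent.Lib.SmallGroups.JordanCycle
import Cfsg.Agent.Lib.Perm.PrimeDegree

/-!
# Cycle types in primitive groups of degree eleven

A primitive group of degree eleven not containing the alternating group has no non-trivial even
element with support at most five, no Sylow subgroup of order `25`, no subgroup of order `64` of
even permutations, and no element of order seven when it is doubly transitive.
-/

set_option autoImplicit false

namespace CfsgLib.Perm.DegreeEleven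

open Equiv MulAction Finset

variable {α : Type*} [Fintype α] [DecidableEq α]

/-- The standing hypotheses. -/
structure Ctx (G : Subgroup (Perm α)) : Prop where
  card : Fintype.card α = 11
  prim : IsPreprimitive G α
  notAlt : ¬ alternatingGroup α ≤ G

variable {G : Subgroup (Perm α)}

theorem Ctx.not_cycle (h : Ctx G) {g : Perm α} (hg : g ∈ G) (hc : g.IsCycle)
    (hp : g.support.card.Prime) (h5 : g.support.card ≤ 5) : False :=
  h.notAlt (CfsgLib.SmallGroups.JordanCycle.alternatingGroup_le h.prim hc hg hp (by rw [h.card]; omega))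

/-- The cycle type of an element of prime order. -/
theorem prime_type {g : Perm α} {p : ℕ} (hp : p.Prime) (ho : orderOf g = p) :
    ∃ m : ℕ, 1 ≤ m ∧ g.cycleType = Multiset.replicate m p ∧ g.support.card = m * p ∧
      Perm.sign g = (-1) ^ (m * p + m) := by
  obtain ⟨n, hn⟩ := Perm.cycleType_prime_order (ho ▸ hp : (orderOf g).Prime)
  rw [ho] at hn
  refine ⟨n + 1, by omega, hn, ?_, ?_⟩
  · rw [← Perm.sum_cycleType, hn, Multiset.sum_replicate, smul_eq_mul]
  · rw [Perm.sign_of_cycleType, hn, Multiset.sum_replicate, Multiset.card_replicate, smul_eq_mul]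

theorem Ctx.no_single (h : Ctx G) {g : Perm α} (hg : g ∈ G) {p : ℕ} (hp : p.Prime)
    (ho : orderOf g = p) (h5 : p ≤ 5) (hs : g.support.card = p) : False := by
  obtain ⟨m, -, hn, hm, -⟩ := prime_type hp ho
  have : m = 1 := by
    rw [hs] at hm
    exact (Nat.mul_eq_right hp.ne_zero).1 hm.symm
  subst this
  exact h.not_cycle hg (Perm.card_cycleType_eq_one.1 (by rw [hn, Multiset.card_replicate]))
    (hs ▸ hp) (hs ▸ h5)

/-- An even element with small support is an involution with support four. -/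
theorem Ctx.small_even (h : Ctx G) {g : Perm α} (hg : g ∈ G) (hne : g ≠ 1) (hsg : Perm.sign g = 1)
    (h5 : g.support.card ≤ 5) : g.support.card = 4 ∧ g * g = 1 := by
  have hsum : g.cycleType.sum = g.support.card := Perm.sum_cycleType g
  have hsign := Perm.sign_of_cycleType g
  rw [hsg] at hsign
  have hev : (g.cycleType.sum + g.cycleType.card) % 2 = 0 := by
    rcases Nat.mod_two_eq_zero_or_one (g.cycleType.sum + g.cycleType.card) with e | e
    · exact e
    · rw [(Nat.odd_iff.2 e).neg_one_pow] at hsign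
      exact absurd hsign (by decide)
  have h2 : ∀ n ∈ g.cycleType, 2 ≤ n := fun n hn => Perm.two_le_of_mem_cycleType hn
  have hc : 2 * g.cycleType.card ≤ g.cycleType.sum := by
    have := Multiset.card_nsmul_le_sum h2
    rw [smul_eq_mul] at this
    linarith
  have hc0 : g.cycleType.card ≠ 0 := fun e => hne (Perm.cycleType_eq_zero.1 (Multiset.card_eq_zero.1 e))
  rcases (show g.cycleType.card = 1 ∨ g.cycleType.card = 2 by omega) with e | e
  · exfalso
    have hcyc := Perm.card_cycleType_eq_one.1 e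
    obtain ⟨n, hn⟩ := Multiset.card_eq_one.1 e
    rw [hn, Multiset.sum_singleton] at hsum
    have := h2 n (by rw [hn]; exact Multiset.mem_singleton_self n)
    rw [hn, Multiset.sum_singleton, Multiset.card_singleton] at hev
    have h35 : g.support.card = 3 ∨ g.support.card = 5 := by omega
    rcases h35 with e' | e' <;> exact h.not_cycle hg hcyc (by rw [e']; norm_num) (by omega)
  · obtain ⟨m, n, hn⟩ := Multiset.card_eq_two.1 e
    have hm' := h2 m (by rw [hn]; simp)
    have hn' := h2 n (by rw [hn]; simp)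
    have hs : g.cycleType.sum = m + n := by rw [hn]; simp
    rw [hs, e] at hev
    rw [hs] at hsum
    have : m = 2 ∧ n = 2 := by omega
    obtain ⟨rfl, rfl⟩ := this
    refine ⟨by omega, ?_⟩
    have ho : orderOf g = 2 := by rw [← Perm.lcm_cycleType, hn]; rfl
    rw [← pow_two, ← ho, pow_orderOf_eq_one]

theorem shift_list : ∀ b c d : ZMod 11, b ≠ 0 → c ≠ 0 → d ≠ 0 → b ≠ c → b ≠ d → c ≠ d → ∃ i : ZMod 11,
    [0, b, c, d].countP (fun x => [0, b, c, d].contains (x - i)) = 1 ∨
      [0, b, c, d].countP (fun x => [0, b, c, d].contains (x - i)) = 3 := by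
  decide +kernel

theorem shift_odd (S : Finset (ZMod 11)) (h0 : 0 ∈ S) (h4 : S.card = 4) : ∃ i : ZMod 11,
    (S ∩ S.image (· + i)).card = 1 ∨ (S ∩ S.image (· + i)).card = 3 := by
  obtain ⟨b, c, d, hbc, hbd, hcd, hS⟩ := card_eq_three.1 (show (S.erase 0).card = 3 by
    rw [card_erase_of_mem h0, h4])
  have hS' : S = [0, b, c, d].toFinset := by rw [← insert_erase h0, hS]; simp
  have hne : ∀ x ∈ ({b, c, d} : Finset (ZMod 11)), x ≠ 0 := fun x hx => (mem_erase.1 (hS ▸ hx)).1
  have hb := hne b (by simp)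
  have hc := hne c (by simp)
  have hd := hne d (by simp)
  have hnd : [0, b, c, d].Nodup := by simp [hb.symm, hc.symm, hd.symm, hbc, hbd, hcd]
  obtain ⟨i, hi⟩ := shift_list b c d hb hc hd hbc hbd hcd
  refine ⟨i, ?_⟩
  suffices hkey : (S ∩ S.image (· + i)).card =
      [0, b, c, d].countP (fun x => [0, b, c, d].contains (x - i)) by rw [hkey]; exact hi
  have e : S ∩ S.image (· + i) = ([0, b, c, d].filter fun x => [0, b, c, d].contains (x - i)).toFinset := by
    ext x
    simp only [hS', mem_inter, mem_image, List.mem_toFinset, List.mem_filter, List.contains_iff_mem]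
    refine and_congr_right fun _ => ⟨?_, fun hx => ⟨x - i, hx, sub_add_cancel x i⟩⟩
    rintro ⟨y, hy, rfl⟩
    rwa [add_sub_cancel_right]
  rw [e, List.toFinset_card_of_nodup (hnd.filter _), List.countP_eq_length_filter]

/-- No non-trivial even element has support at most five. -/
theorem Ctx.no_small (h : Ctx G) {g : Perm α} (hg : g ∈ G) (hne : g ≠ 1) (hsg : Perm.sign g = 1)
    (h5 : g.support.card ≤ 5) : False := by
  obtain ⟨h4, hgg⟩ := h.small_even hg hne hsg h5
  haveI := h.prim.toIsPretransitive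
  haveI : Fact (Nat.Prime 11) := ⟨by norm_num⟩
  have hα : Nat.card α = 11 := by rw [Nat.card_eq_fintype_card, h.card]
  obtain ⟨a, ha⟩ : g.support.Nonempty := card_pos.1 (by omega)
  obtain ⟨s, e, -, ha0, he⟩ := CfsgLib.Perm.PrimeDegree.exists_coord hα G a
  obtain ⟨i, hi⟩ := shift_odd (g.support.image e) (mem_image.2 ⟨a, ha, ha0⟩)
    (by rw [card_image_of_injective _ e.injective, h4])
  set c : Perm α := (s : Perm α) ^ i.val
  have hcG : c ∈ G := pow_mem s.2 _
  have hpow : ∀ (n : ℕ) x, e (((s : Perm α) ^ n) x) = e x + n := by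
    intro n
    induction n with
    | zero => simp
    | succ n ih => intro x; rw [pow_succ', Perm.mul_apply]; exact (he _).trans (by rw [ih]; push_cast; ring)
  have hec : ∀ x, e (c x) = e x + i := fun x => by rw [hpow, ZMod.natCast_zmod_val]
  set t := c * g * c⁻¹
  have htG : t ∈ G := mul_mem (mul_mem hcG hg) (inv_mem hcG)
  have ht4 : t.support.card = 4 := by rw [Perm.card_support_conj, h4]
  have htsg : Perm.sign t = 1 := by simp [t, hsg]
  have htsupp : t.support.image e = (g.support.image e).image (· + i) := by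
    rw [Perm.support_conj, Finset.map_eq_image, image_image, image_image]
    exact image_congr fun x _ => hec x
  have hinter : (g.support ∩ t.support).card = 1 ∨ (g.support ∩ t.support).card = 3 := by
    rw [← card_image_of_injective _ e.injective, image_inter _ _ e.injective, htsupp]; exact hi
  rcases hinter with h1 | h3
  · obtain ⟨x, hx⟩ := card_eq_one.1 h1
    have hx' : x ∈ g.support ∩ t.support := hx ▸ mem_singleton_self x
    rw [mem_inter, Perm.mem_support, Perm.mem_support] at hx'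
    have h3 : (g * t * g⁻¹ * t⁻¹).IsThreeCycle :=
      CfsgLib.SmallGroups.JordanCycle.isThreeCycle_commutator hx'.1 hx'.2 fun z hz1 hz2 => by
        have : z ∈ g.support ∩ t.support := mem_inter.2 ⟨Perm.mem_support.2 hz1, Perm.mem_support.2 hz2⟩
        rwa [hx, mem_singleton] at this
    exact h.notAlt (Perm.alternatingGroup_le_of_isPreprimitive_of_isThreeCycle_mem h.prim h3
      (mul_mem (mul_mem (mul_mem hg htG) (inv_mem hg)) (inv_mem htG)))
  · have hsub : (g * t).support ⊆ g.support ∪ t.support := Perm.support_mul_le g t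
    have hcu : (g.support ∪ t.support).card = 5 := by
      have := card_union_add_card_inter g.support t.support; omega
    obtain ⟨htt0, htt⟩ := h.small_even htG (by intro e; rw [e] at ht4; simp at ht4) htsg (by omega)
    have hcomm : g * t = t * g := by
      by_cases hs : g * t = 1
      · rw [hs, eq_inv_of_mul_eq_one_right hs, inv_mul_cancel]
      · obtain ⟨-, hss⟩ := h.small_even (mul_mem hg htG) hs (by simp [hsg, htsg])
          (hcu ▸ card_le_card hsub)
        calc g * t = g * (g * t * (g * t)) * t := by rw [hss, mul_one]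
          _ = g * g * (t * g) * (t * t) := by group
          _ = t * g := by rw [hgg, htt, one_mul, mul_one]
    obtain ⟨d, hd⟩ : (g.support \ t.support).Nonempty := card_pos.1 (by
      have := card_sdiff_add_card_inter g.support t.support; omega)
    rw [mem_sdiff, Perm.mem_support, Perm.notMem_support] at hd
    have h2 : g d ∉ t.support := by
      rw [Perm.notMem_support, ← Perm.mul_apply, ← hcomm, Perm.mul_apply, hd.2]
    have hss : {d, g d} ⊆ g.support \ t.support := by
      simp only [insert_subset_iff, singleton_subset_iff, mem_sdiff]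
      exact ⟨⟨Perm.mem_support.2 hd.1, Perm.notMem_support.2 hd.2⟩,
        Perm.apply_mem_support.2 (Perm.mem_support.2 hd.1), h2⟩
    have := card_le_card hss
    rw [card_pair (Ne.symm hd.1)] at this
    have := card_sdiff_add_card_inter g.support t.support
    omega

/-- Twenty-five does not divide the order. -/
theorem Ctx.not_twentyfive_dvd (h : Ctx G) : ¬ 25 ∣ Nat.card G := by
  intro hd
  haveI : Fact (Nat.Prime 5) := ⟨by norm_num⟩
  obtain ⟨K, hK⟩ := Sylow.exists_subgroup_card_pow_prime 5 (n := 2) (G := G) (by simpa using hd)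
  let K' := K.map G.subtype
  have hK' : Nat.card K' = 5 ^ 2 := by rw [Subgroup.card_map_of_injective G.subtype_injective, hK]
  have hfull : (Nat.card (Perm α)).factorization 5 = 2 := by
    rw [Nat.card_perm, Nat.card_eq_fintype_card, h.card]
    rw [show Nat.factorial 11 = 5 ^ 2 * 1596672 by rfl, Nat.factorization_mul (by norm_num) (by norm_num),
      Finsupp.add_apply, Nat.Prime.factorization_pow (by norm_num), Finsupp.single_eq_same,
      Nat.factorization_eq_zero_of_not_dvd (by norm_num)]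
  let P : Sylow 5 (Perm α) := Sylow.ofCard K' (by rw [hK', hfull])
  obtain ⟨c, hc⟩ := (Perm.exists_with_cycleType_iff α (m := {5})).2 ⟨by simp [h.card], by simp⟩
  have hco : orderOf c = 5 := by rw [← Perm.lcm_cycleType, hc]; rfl
  have hcs : c.support.card = 5 := by rw [← Perm.sum_cycleType, hc]; rfl
  obtain ⟨Q, hQ⟩ := (IsPGroup.of_card (n := 1) (by rw [Nat.card_zpowers, hco, pow_one]) :
    IsPGroup 5 (Subgroup.zpowers c)).exists_le_sylow
  obtain ⟨w, hw⟩ := MulAction.exists_smul_eq (Perm α) Q P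
  have hmem : w * c * w⁻¹ ∈ (P : Subgroup (Perm α)) := by
    rw [← hw, Sylow.coe_subgroup_smul]
    exact ⟨c, hQ (Subgroup.mem_zpowers c), by simp⟩
  obtain ⟨k, -, hk⟩ := Subgroup.mem_map.1 hmem
  exact h.no_single (hk ▸ k.2 : w * c * w⁻¹ ∈ G) (by norm_num : Nat.Prime 5)
    (by rw [← hco]; exact (MulAut.conj w).orderOf_eq c) le_rfl (by rw [Perm.card_support_conj, hcs])

/-- A group of even permutations has no subgroup of order sixty-four. -/
theorem Ctx.not_sixtyfour_dvd (h : Ctx G) (hev : G ≤ alternatingGroup α) : ¬ 64 ∣ Nat.card G := by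
  intro hd
  haveI : Fact (Nat.Prime 2) := ⟨Nat.prime_two⟩
  obtain ⟨K, hK⟩ := Sylow.exists_subgroup_card_pow_prime 2 (n := 6) (G := G) (by simpa using hd)
  let K' := K.map (Subgroup.inclusion hev)
  have hK' : Nat.card K' = 2 ^ 6 := by
    rw [Subgroup.card_map_of_injective (Subgroup.inclusion_injective hev), hK]
  haveI : Nontrivial α := Fintype.one_lt_card_iff_nontrivial.1 (by rw [h.card]; norm_num)
  have hA : Nat.card (alternatingGroup α) = 19958400 := by
    rw [nat_card_alternatingGroup, Nat.card_eq_fintype_card, h.card]; rfl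
  obtain ⟨ι⟩ : Nonempty (Fin 4 ↪ α) := Function.Embedding.nonempty_of_card_le (by simp [h.card])
  obtain ⟨V, hV⟩ := Sylow.exists_subgroup_card_pow_prime 2 (n := 2) (G := alternatingGroup (Fin 4))
    (by rw [nat_card_alternatingGroup]; simp; decide)
  have hsmall : ∀ v : Perm (Fin 4), (v.viaEmbedding ι).support.card ≤ 4 := fun v => by
    refine (card_le_card (t := univ.map ι) fun x hx => ?_).trans (by simp)
    by_contra hx'
    exact Perm.mem_support.1 hx (Perm.viaEmbedding_apply_of_notMem _ _ _ fun ⟨j, hj⟩ => hx' (by simp [← hj]))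
  have hsign : ∀ v : Perm (Fin 4), Perm.sign (v.viaEmbedding ι) = Perm.sign v := fun v => by
    rw [Perm.viaEmbedding, Perm.sign_extendDomain]
  let f : alternatingGroup (Fin 4) →* alternatingGroup α :=
    ((Perm.viaEmbeddingHom ι).comp (alternatingGroup (Fin 4)).subtype).codRestrict (alternatingGroup α)
      fun v => Perm.mem_alternatingGroup.2 ((hsign v.1).trans (Perm.mem_alternatingGroup.1 v.2))
  have hf : Function.Injective f := fun v w e => Subtype.ext (Perm.viaEmbeddingHom_injective ι (congrArg Subtype.val e))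
  let V' := V.map f
  have hV' : Nat.card V' = 2 ^ 2 := by rw [Subgroup.card_map_of_injective hf, hV]
  have hVsmall : ∀ v ∈ V', (v : Perm α).support.card ≤ 5 := by
    rintro _ ⟨v, -, rfl⟩
    exact (hsmall v.1).trans (by norm_num)
  obtain ⟨Q, hQ⟩ := (IsPGroup.of_card hK').exists_le_sylow
  obtain ⟨R, hR⟩ := (IsPGroup.of_card hV').exists_le_sylow
  obtain ⟨w, hw⟩ := MulAction.exists_smul_eq (alternatingGroup α) R Q
  let V'' := V'.map (MulAut.conj w).toMonoidHom
  have hV'' : Nat.card V'' = 2 ^ 2 := by rw [Subgroup.card_map_of_injective (MulAut.conj w).injective, hV']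
  have hVQ : V'' ≤ (Q : Subgroup (alternatingGroup α)) := by
    rw [← hw, Sylow.coe_subgroup_smul]
    exact Subgroup.map_mono hR
  have hQc : Nat.card (Q : Subgroup (alternatingGroup α)) = 2 ^ 7 := by
    rw [Q.card_eq_multiplicity, hA, show 19958400 = 2 ^ 7 * 155925 by rfl,
      Nat.factorization_mul (by norm_num) (by norm_num), Finsupp.add_apply,
      Nat.Prime.factorization_pow Nat.prime_two, Finsupp.single_eq_same,
      Nat.factorization_eq_zero_of_not_dvd (by norm_num)]
  obtain ⟨z, hz, hz1⟩ : ∃ z, z ∈ K' ⊓ V'' ∧ z ≠ 1 := by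
    by_contra hc
    push Not at hc
    have hdis : Disjoint K' V'' := by
      rw [Subgroup.disjoint_def]; exact fun h1 h2 => hc _ ⟨h1, h2⟩
    have hinj := Subgroup.mul_injective_of_disjoint hdis
    have hle := Nat.card_le_card_of_injective
      (fun q : K' × V'' => (⟨(q.1 : alternatingGroup α) * q.2, mul_mem (hQ q.1.2) (hVQ q.2.2)⟩ :
        (Q : Subgroup (alternatingGroup α))))
      fun q r e => hinj (congrArg Subtype.val e)
    rw [Nat.card_prod, hK', hV'', hQc] at hle
    norm_num at hle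
  obtain ⟨k, -, hk⟩ := Subgroup.mem_map.1 hz.1
  obtain ⟨v, hv, hvz⟩ := Subgroup.mem_map.1 hz.2
  refine h.no_small (g := (z : Perm α)) (hk ▸ k.2) (fun e => hz1 (Subtype.ext e)) z.2 ?_
  rw [← hvz]
  show ((w : Perm α) * (v : Perm α) * (w : Perm α)⁻¹).support.card ≤ 5
  rw [Perm.card_support_conj]
  exact hVsmall v hv

/-- There is no element of order seven. -/
theorem Ctx.not_seven_dvd (h : Ctx G) (h2 : IsMultiplyPretransitive G α 2) : ¬ 7 ∣ Nat.card G := by
  intro hd
  haveI : Fact (Nat.Prime 7) := ⟨by norm_num⟩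
  obtain ⟨g, hg⟩ := exists_prime_orderOf_dvd_card' (G := G) 7 hd
  set c : Perm α := g.1
  have hcG : c ∈ G := g.2
  have hco : orderOf c = 7 := by rw [Subgroup.orderOf_coe, hg]
  obtain ⟨m, hm1, hct, hcs, hcsg⟩ := prime_type (by norm_num : Nat.Prime 7) hco
  have hcard := c.support.card_le_univ
  rw [h.card, hcs] at hcard
  obtain rfl : m = 1 := by omega
  have hcyc : c.IsCycle := Perm.card_cycleType_eq_one.1 (by rw [hct, Multiset.card_replicate])
  have hmult : ∀ (H : Subgroup (Perm α)) (x y : Perm α), x ∈ H → y ∈ H → orderOf x = 7 → orderOf y = 7 →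
      ∃ w ∈ H, w * x * w⁻¹ ∈ Subgroup.zpowers y := by
    intro H x y hx hy hxo hyo
    have hdvd : ∀ z : H, orderOf (z : Perm α) = 7 → 7 ∣ Nat.card H := fun z hz => by
      rw [← hz, Subgroup.orderOf_coe]; exact orderOf_dvd_natCard z
    have hfac : (Nat.card H).factorization 7 = 1 := by
      have h11 : Nat.card H ∣ Nat.factorial 11 := by
        have := H.card_subgroup_dvd_card
        rwa [Nat.card_perm, Nat.card_eq_fintype_card (α := α), h.card] at this
      have hlt : (Nat.card H).factorization 7 ≤ 1 := by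
        by_contra hlt
        have h49 : 7 ^ 2 ∣ Nat.factorial 11 :=
          ((pow_dvd_pow 7 (by omega : 2 ≤ (Nat.card H).factorization 7)).trans (Nat.ordProj_dvd _ _)).trans h11
        norm_num [Nat.factorial] at h49
      have := (Nat.Prime.dvd_iff_one_le_factorization (by norm_num : Nat.Prime 7) Nat.card_pos.ne').1
        (hdvd ⟨x, hx⟩ hxo)
      omega
    have hcz : ∀ z : H, orderOf (z : Perm α) = 7 → Nat.card (Subgroup.zpowers z) = 7 ^ (Nat.card H).factorization 7 :=
      fun z hz => by rw [Nat.card_zpowers, ← Subgroup.orderOf_coe, hz, hfac, pow_one]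
    obtain ⟨w, hw⟩ := MulAction.exists_smul_eq H (Sylow.ofCard _ (hcz ⟨x, hx⟩ hxo))
      (Sylow.ofCard _ (hcz ⟨y, hy⟩ hyo))
    refine ⟨w, w.2, ?_⟩
    have hmem : w * ⟨x, hx⟩ * w⁻¹ ∈ Subgroup.zpowers (⟨y, hy⟩ : H) := by
      have h1 : w * ⟨x, hx⟩ * w⁻¹ ∈ ((w • Sylow.ofCard _ (hcz ⟨x, hx⟩ hxo) : Sylow 7 H) : Subgroup H) := by
        rw [Sylow.coe_subgroup_smul]
        exact ⟨⟨x, hx⟩, Subgroup.mem_zpowers _, rfl⟩
      rw [hw] at h1
      exact h1
    obtain ⟨k, hk⟩ := Subgroup.mem_zpowers_iff.1 hmem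
    exact Subgroup.mem_zpowers_iff.2 ⟨k, by simpa using congrArg Subtype.val hk⟩
  obtain ⟨b₁, b₂, b₃, -, hb₁, hb₂, hb₃, -, h12, h13, -, h23, -, -⟩ :
      ∃ b₁ b₂ b₃ b₄ : α, b₁ ∉ c.support ∧ b₂ ∉ c.support ∧ b₃ ∉ c.support ∧ b₄ ∉ c.support ∧
        b₁ ≠ b₂ ∧ b₁ ≠ b₃ ∧ b₁ ≠ b₄ ∧ b₂ ≠ b₃ ∧ b₂ ≠ b₄ ∧ b₃ ≠ b₄ := by
    have h4 : (c.supportᶜ).card = 4 := by rw [card_compl, h.card, hcs]
    obtain ⟨b₁, b₂, b₃, b₄, h1, h2, h3, h4', h5, h6, he⟩ := card_eq_four.1 h4
    have : ∀ x ∈ ({b₁, b₂, b₃, b₄} : Finset α), x ∉ c.support := fun x hx => mem_compl.1 (he ▸ hx)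
    exact ⟨b₁, b₂, b₃, b₄, this _ (by simp), this _ (by simp), this _ (by simp), this _ (by simp),
      h1, h2, h3, h4', h5, h6⟩
  -- lift motions of fixed points to the normaliser
  have hlift : ∀ a b a' b' : α, a ∉ c.support → b ∉ c.support → a' ∉ c.support → b' ∉ c.support →
      a ≠ b → a' ≠ b' → ∃ x ∈ G, x a = a' ∧ x b = b' ∧ x * c * x⁻¹ ∈ Subgroup.zpowers c := by
    intro a b a' b' ha hb ha' hb' hab hab'
    obtain ⟨w, hw1, hw2⟩ := is_two_pretransitive_iff.1 h2 hab hab'
    let H : Subgroup (Perm α) := G ⊓ stabilizer (Perm α) a' ⊓ stabilizer (Perm α) b'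
    have hc' : (w : Perm α) * c * (w : Perm α)⁻¹ ∈ H := by
      refine ⟨⟨G.mul_mem (G.mul_mem w.2 hcG) (G.inv_mem w.2), ?_⟩, ?_⟩
      · show ((w : Perm α) * c * (w : Perm α)⁻¹) a' = a'
        rw [← hw1]; change ((w : Perm α) * c * (w : Perm α)⁻¹) ((w : Perm α) a) = (w : Perm α) a
        simp [Perm.notMem_support.1 ha]
      · show ((w : Perm α) * c * (w : Perm α)⁻¹) b' = b'
        rw [← hw2]; change ((w : Perm α) * c * (w : Perm α)⁻¹) ((w : Perm α) b) = (w : Perm α) b
        simp [Perm.notMem_support.1 hb]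
    have hc'' : c ∈ H := ⟨⟨hcG, Perm.notMem_support.1 ha'⟩, Perm.notMem_support.1 hb'⟩
    obtain ⟨v, hv, hvc⟩ := hmult H _ c hc' hc''
      (by rw [← hco]; exact (MulAut.conj (w : Perm α)).orderOf_eq c) hco
    refine ⟨v * w, mul_mem hv.1.1 w.2, ?_, ?_, ?_⟩
    · rw [Perm.mul_apply, show (w : Perm α) a = a' from hw1]; exact hv.1.2
    · rw [Perm.mul_apply, show (w : Perm α) b = b' from hw2]; exact hv.2
    · have e : v * ↑w * c * (v * ↑w)⁻¹ = v * (↑w * c * (↑w)⁻¹) * v⁻¹ := by group
      rw [e]; exact hvc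
  obtain ⟨x, hxG, hx1, hx2, hxc⟩ := hlift b₁ b₂ b₂ b₁ hb₁ hb₂ hb₂ hb₁ h12 h12.symm
  obtain ⟨y, hyG, hy1, hy2, hyc⟩ := hlift b₁ b₂ b₁ b₃ hb₁ hb₂ hb₁ hb₃ h12 h13
  obtain ⟨i, hi⟩ := Subgroup.mem_zpowers_iff.1 hxc
  obtain ⟨j, hj⟩ := Subgroup.mem_zpowers_iff.1 hyc
  have hconj : ∀ (u : Perm α) (n : ℤ), u * c ^ n * u⁻¹ = (u * c * u⁻¹) ^ n := fun u n => by rw [conj_zpow]
  have e1 : (x * y) * c * (x * y)⁻¹ = c ^ (i * j) := by
    rw [show x * y * c * (x * y)⁻¹ = x * (y * c * y⁻¹) * x⁻¹ by group, ← hj, hconj, ← hi, zpow_mul]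
  have e2 : (y * x) * c * (y * x)⁻¹ = c ^ (i * j) := by
    rw [show y * x * c * (y * x)⁻¹ = y * (x * c * x⁻¹) * y⁻¹ by group, ← hi, hconj, ← hj, mul_comm,
      zpow_mul]
  set d := c ^ (i * j) with hd'
  set z := x * y * (y * x)⁻¹
  have hzd : z * d = d * z := by
    have : z * d * z⁻¹ = d := by
      conv_lhs => rw [← e2]
      rw [← e1]; simp only [z]; group
    exact mul_inv_eq_iff_eq_mul.1 this
  have hdG : d ∈ G := zpow_mem hcG _
  have hdcyc : d.IsCycle := e1 ▸ hcyc.conj
  have hdsupp : d.support = c.support := by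
    refine eq_of_subset_of_card_le (Perm.support_zpow_le c _) ?_
    have h' : d.support.card = c.support.card := by
      conv_lhs => rw [← e1]
      exact Perm.card_support_conj
    omega
  have hz3 : z b₃ = b₂ := by
    have h' : (y * x) b₁ = b₃ := by rw [Perm.mul_apply, hx1, hy2]
    conv_lhs => rw [← h']
    simp only [z, Perm.mul_apply, inv_mul_cancel_right]
    rw [← Perm.mul_apply x y, ← Perm.mul_apply, ← Perm.mul_apply, ← Perm.mul_apply]
    rw [show x * y * (y * x)⁻¹ * y * x = x * y by group, Perm.mul_apply, hy1, hx1]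
  obtain ⟨a₀, ha₀⟩ : d.support.Nonempty := card_pos.1 (by rw [hdsupp, hcs]; norm_num)
  have hza : z a₀ ∈ d.support := by
    rw [Perm.mem_support, ← Perm.mul_apply, ← hzd, Perm.mul_apply]
    exact fun e => Perm.mem_support.1 ha₀ (z.injective e)
  obtain ⟨n, hn⟩ := hdcyc.exists_pow_eq (Perm.mem_support.1 ha₀) (Perm.mem_support.1 hza)
  have hfix : ∀ w ∈ d.support, (d ^ n)⁻¹ (z w) = w := by
    intro w hw
    obtain ⟨k, rfl⟩ := hdcyc.exists_pow_eq (Perm.mem_support.1 ha₀) (Perm.mem_support.1 hw)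
    have hzk : z * d ^ k = d ^ k * z := (Commute.pow_right hzd k).eq
    rw [← Perm.mul_apply z, hzk, Perm.mul_apply, ← hn, ← Perm.mul_apply, ← Perm.mul_apply, mul_assoc,
      (Commute.pow_pow_self d k n).eq, inv_mul_cancel_left]
  refine h.no_small (g := (d ^ n)⁻¹ * z)
    (mul_mem (inv_mem (pow_mem hdG n)) (mul_mem (mul_mem hxG hyG) (inv_mem (mul_mem hyG hxG)))) ?_ ?_ ?_
  · intro e
    have h' := congrArg (fun u : Perm α => u b₃) e
    simp only [Perm.mul_apply, Perm.one_apply, hz3] at h'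
    have hb2d : ((d ^ n)⁻¹) b₂ = b₂ := Perm.notMem_support.1 fun hh =>
      hb₂ (hdsupp ▸ Perm.support_pow_le d n (Perm.support_inv (d ^ n) ▸ hh))
    rw [hb2d] at h'
    exact h23 h'
  · have hcs1 : Perm.sign c = 1 := by rw [hcsg]; rfl
    simp [z, d, mul_comm, hcs1]
  · have hsub : ((d ^ n)⁻¹ * z).support ⊆ d.supportᶜ := fun w hw =>
      mem_compl.2 fun hwd => Perm.mem_support.1 hw (hfix w hwd)
    have := card_le_card hsub
    rw [card_compl, h.card, hdsupp, hcs] at this
    omega

end CfsgLib.Perm.DegreeEleven
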