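import Mathlib
import Cfsg.Agent.Lib.Perm.DegreeEleven.Types
import Cfsg.Agent.Lib.SmallGroups.Simplicity
import Cfsg.Agent.Lib.SmallGroups.SimpleTools
import Cfsg.Agent.Lib.Frobenius.PrimeDegreeInverting
import Cfsg.Agent.S0675

/-!
# The order of an even transitive non-solvable group of degree eleven

Such a group has order `660` or `7920`, with Sylow `11`-normaliser of order `55`.
-/

set_option autoImplicit false

namespace CfsgLib.Perm.DegreeEleven

open Equiv MulAction

variable {α : Type*} [Fintype α] [DecidableEq α] {G : Subgroup (Perm α)}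

instance fact_eleven : Fact (Nat.Prime 11) := ⟨by norm_num⟩

theorem card_dvd_factorial (hα : Fintype.card α = 11) (G : Subgroup (Perm α)) :
    Nat.card G ∣ 39916800 := by
  have := G.card_subgroup_dvd_card
  rwa [Nat.card_perm, Nat.card_eq_fintype_card (α := α), hα, show Nat.factorial 11 = 39916800 by rfl] at this

theorem descFactorial_dvd {k : ℕ} (hα : Fintype.card α = 11) (hk : k ≤ 11)
    (h : IsMultiplyPretransitive G α k) : (11 : ℕ).descFactorial k ∣ Nat.card G := by
  obtain ⟨e⟩ : Nonempty (Fin k ↪ α) := Function.Embedding.nonempty_of_card_le (by simp [hα, hk])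
  have := @CfsgLib.Perm.Basic.card_dvd_card G _ (Fin k ↪ α) _ h ⟨e⟩
  rwa [Nat.card_eq_fintype_card, Fintype.card_embedding_eq, hα, Fintype.card_fin] at this

theorem card_sylow_eleven (hα : Fintype.card α = 11) [IsPretransitive G α] (P : Sylow 11 G) :
    Nat.card (P : Subgroup G) = 11 := by
  haveI : Nonempty α := Fintype.card_pos_iff.1 (by omega)
  have h11 : 11 ∣ Nat.card G := by
    rw [show 11 = Nat.card α by rw [Nat.card_eq_fintype_card, hα]]
    exact CfsgLib.Perm.Basic.card_dvd_card
  rw [P.card_eq_multiplicity]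
  have hle : (Nat.card G).factorization 11 ≤ 1 := by
    by_contra hlt
    have := ((pow_dvd_pow 11 (by omega : 2 ≤ (Nat.card G).factorization 11)).trans (Nat.ordProj_dvd _ _)).trans
      (card_dvd_factorial hα G)
    norm_num at this
  have := (Nat.Prime.dvd_iff_one_le_factorization (by norm_num : Nat.Prime 11) Nat.card_pos.ne').1 h11
  rw [show (Nat.card G).factorization 11 = 1 by omega, pow_one]

/-- The numerical data of the Sylow `11`-normaliser. -/
theorem normalizer_data (hα : Fintype.card α = 11) [IsPretransitive G α] (P : Sylow 11 G) :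
    ∃ d : ℕ, d ∣ 10 ∧ Nat.card (Subgroup.normalizer ((P : Subgroup G) : Set G)) = 11 * d ∧
      Nat.card G = 11 * d * Nat.card (Sylow 11 G) := by
  have hα' : Nat.card α = 11 := by rw [Nat.card_eq_fintype_card, hα]
  have hP := card_sylow_eleven hα P
  have hPN : (P : Subgroup G) ≤ Subgroup.normalizer ((P : Subgroup G) : Set G) := Subgroup.le_normalizer
  have hN : Nat.card (Subgroup.normalizer ((P : Subgroup G) : Set G)) =
      11 * (P : Subgroup G).relIndex (Subgroup.normalizer ((P : Subgroup G) : Set G)) := by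
    have h := ((P : Subgroup G).subgroupOf (Subgroup.normalizer ((P : Subgroup G) : Set G))).card_mul_index
    rw [Nat.card_congr (Subgroup.subgroupOfEquivOfLe hPN).toEquiv, hP] at h
    exact h.symm
  refine ⟨_, CfsgLib.Frobenius.PrimeDegree.relIndex_dvd G hα' P hP, hN, ?_⟩
  rw [← hN, P.card_eq_index_normalizer]
  exact (Subgroup.card_mul_index _).symm

theorem Ctx.two_pretransitive (h : Ctx G) (hns : ¬ Group.IsSolvable G) :
    IsMultiplyPretransitive G α 2 := by
  haveI := h.prim.toIsPretransitive
  exact (Cfsg.Agent.S0675.result (h.card ▸ (by norm_num)) G).resolve_left hns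

theorem Ctx.normalizer_ne_eleven (h : Ctx G) (hns : ¬ Group.IsSolvable G) (P : Sylow 11 G) :
    Nat.card (Subgroup.normalizer ((P : Subgroup G) : Set G)) ≠ 11 := by
  intro hN
  haveI := h.prim
  haveI := h.prim.toIsPretransitive
  haveI : Nonempty α := Fintype.card_pos_iff.1 (by rw [h.card]; norm_num)
  have hP := card_sylow_eleven h.card P
  haveI : IsCyclic (P : Subgroup G) := isCyclic_of_prime_card hP
  have heq : (P : Subgroup G) = Subgroup.normalizer ((P : Subgroup G) : Set G) :=
    Subgroup.eq_of_le_of_card_ge Subgroup.le_normalizer (by rw [hN, hP])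
  haveI : IsMulCommutative (P : Subgroup G) := IsCyclic.isMulCommutative
  have hle : Subgroup.normalizer ((P : Subgroup G) : Set G) ≤ Subgroup.centralizer ((P : Subgroup G) : Set G) :=
    heq ▸ Subgroup.le_centralizer (P : Subgroup G)
  have hK := MonoidHom.ker_transferSylow_isComplement' P hle
  by_cases hbot : (MonoidHom.transferSylow P hle).ker = ⊥
  · rw [hbot] at hK
    have htop : (P : Subgroup G) = ⊤ := Subgroup.isComplement'_bot_left.mp hK
    have hcard : Nat.card G = 11 := by rw [← hP, htop, Subgroup.card_top]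
    have h110 := descFactorial_dvd (k := 2) h.card (by norm_num) (h.two_pretransitive hns)
    rw [hcard] at h110
    norm_num [Nat.descFactorial] at h110
  · apply MonoidHom.not_dvd_card_ker_transferSylow P hle
    have hd := CfsgLib.SmallGroups.Simplicity.card_dvd_card_normal_of_primitive (X := α) _ inferInstance hbot
    rwa [Nat.card_eq_fintype_card, h.card] at hd

/-- Inverting a Sylow `11`-subgroup needs an odd permutation. -/
theorem Ctx.normalizer_odd (h : Ctx G) (hev : G ≤ alternatingGroup α) (P : Sylow 11 G) :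
    ¬ Even (Nat.card (Subgroup.normalizer ((P : Subgroup G) : Set G))) := by
  intro he
  haveI := h.prim.toIsPretransitive
  haveI : Fact (Nat.Prime 2) := ⟨Nat.prime_two⟩
  obtain ⟨u, hu⟩ := exists_prime_orderOf_dvd_card' 2 (even_iff_two_dvd.1 he)
  have hu' : orderOf ((u : G) : Perm α) = 2 := by rw [Subgroup.orderOf_coe, Subgroup.orderOf_coe, hu]
  obtain ⟨m, hm1, -, hms, hsg⟩ := prime_type Nat.prime_two hu'
  have hle := ((u : G) : Perm α).support.card_le_univ
  rw [h.card, hms] at hle
  have hsg1 : Perm.sign ((u : G) : Perm α) = 1 := hev (u : G).2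
  have hm : m = 4 := by
    have h2 : m ≠ 2 := fun e => h.no_small (u : G).2
      (fun e' => by rw [e', orderOf_one] at hu'; norm_num at hu') hsg1 (by omega)
    rcases (show m = 1 ∨ m = 3 ∨ m = 4 ∨ m = 5 by omega) with rfl | rfl | rfl | rfl
    all_goals first
      | rfl
      | (rw [hsg] at hsg1; exact absurd hsg1 (by decide))
  subst hm
  -- two fixed points and a transitive cyclic group normalised by `u` force commuting
  obtain ⟨a, b, ha, hb, hab⟩ : ∃ a b, ((u : G) : Perm α) a = a ∧ ((u : G) : Perm α) b = b ∧ a ≠ b := by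
    obtain ⟨a, ha, b, hb, hab⟩ := Finset.one_lt_card.1 (show 1 < ((u : G) : Perm α).supportᶜ.card by
      rw [Finset.card_compl, h.card, hms]; norm_num)
    exact ⟨a, b, Perm.notMem_support.1 (Finset.mem_compl.1 ha), Perm.notMem_support.1 (Finset.mem_compl.1 hb), hab⟩
  have hP := card_sylow_eleven h.card P
  have hPtr := CfsgLib.Perm.Basic.sylow_isPretransitive (f := 1) (Ω := α)
    (by rw [Nat.card_eq_fintype_card, h.card, pow_one]) P
  obtain ⟨s, hs⟩ := MulAction.exists_smul_eq (P : Subgroup G) a b
  have hs1 : (s : G) ≠ 1 := by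
    intro e; apply hab
    rw [← hs]
    show a = (s : G) • a
    rw [e, one_smul]
  have hgen : ∀ w : (P : Subgroup G), w ∈ Subgroup.zpowers s := fun w =>
    mem_zpowers_of_prime_card hP (fun e => hs1 (by rw [e]; rfl))
  have hmem : (u : G) * s * (u : G)⁻¹ ∈ (P : Subgroup G) := (Subgroup.mem_normalizer_iff.1 u.2 s).1 s.2
  obtain ⟨k, hk⟩ := hgen ⟨_, hmem⟩
  have hfix : ((u : G) * s * (u : G)⁻¹) • a = (s : G) • a := by
    have ha' : (u : G)⁻¹ • a = a := inv_smul_eq_iff.2 ha.symm
    rw [mul_smul, mul_smul, ha']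
    show (u : G) • (s : (P : Subgroup G)) • a = (s : (P : Subgroup G)) • a
    rw [hs]; exact hb
  haveI : IsCyclic (P : Subgroup G) := isCyclic_of_prime_card hP
  haveI : IsMulCommutative (P : Subgroup G) := IsCyclic.isMulCommutative
  have hcomm : (u : G) * s = s * (u : G) := by
    rw [← mul_inv_eq_iff_eq_mul]
    have hsame : ∀ w : (P : Subgroup G), w • a = a → w = 1 := by
      intro w hw
      refine Subtype.ext (Subtype.ext (Perm.ext fun x => ?_))
      obtain ⟨y, rfl⟩ := MulAction.exists_smul_eq (P : Subgroup G) a x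
      show w • y • a = y • a
      rw [smul_smul, mul_comm' w y, mul_smul, hw]
    have h0 := hsame (s⁻¹ * ⟨_, hmem⟩) (by rw [mul_smul]; exact inv_smul_eq_iff.2 hfix)
    exact (congrArg Subtype.val (inv_mul_eq_one.1 h0)).symm
  have hfixall : ∀ x, ((u : G) : Perm α) x = x := by
    intro x
    obtain ⟨y, rfl⟩ := MulAction.exists_smul_eq (P : Subgroup G) a x
    obtain ⟨i, rfl⟩ := hgen y
    show (u : G) • ((s ^ i : (P : Subgroup G)) : G) • a = ((s ^ i : (P : Subgroup G)) : G) • a
    rw [Subgroup.coe_zpow, smul_smul, (Commute.zpow_right hcomm i).eq, mul_smul]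
    exact congrArg (((s : G) ^ i) • ·) ha
  exact Perm.mem_support.1 (Classical.choose_spec (Finset.card_pos.1
    (by rw [hms]; norm_num : 0 < ((u : G) : Perm α).support.card))) (hfixall _)

/-- The order of an even group. -/
theorem Ctx.order_even (h : Ctx G) (hns : ¬ Group.IsSolvable G) (hev : G ≤ alternatingGroup α) :
    (Nat.card (Sylow 11 G) = 12 ∧ Nat.card G = 660) ∨
      (Nat.card (Sylow 11 G) = 144 ∧ Nat.card G = 7920) := by
  haveI := h.prim.toIsPretransitive
  obtain ⟨P⟩ : Nonempty (Sylow 11 G) := inferInstance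
  obtain ⟨d, hd, hN, hG⟩ := normalizer_data h.card P
  have h2 := h.two_pretransitive hns
  have hd5 : d = 5 := by
    have : d ∈ ({1, 2, 5, 10} : Finset ℕ) := by
      rw [show ({1, 2, 5, 10} : Finset ℕ) = (10 : ℕ).divisors by decide]
      exact Nat.mem_divisors.2 ⟨hd, by norm_num⟩
    simp only [Finset.mem_insert, Finset.mem_singleton] at this
    rcases this with rfl | rfl | rfl | rfl
    · exact absurd hN (h.normalizer_ne_eleven hns P)
    · exact absurd (by rw [hN]; decide) (h.normalizer_odd hev P)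
    · rfl
    · exact absurd (by rw [hN]; decide) (h.normalizer_odd hev P)
  subst hd5
  have hdiv : Nat.card G ∣ 39916800 := card_dvd_factorial h.card G
  have h110 : 110 ∣ Nat.card G := descFactorial_dvd (k := 2) h.card (by norm_num) h2
  have hnmod : Nat.card (Sylow 11 G) % 11 = 1 := card_sylow_modEq_one 11 G
  set n := Nat.card (Sylow 11 G)
  have hn : n ∣ 725760 := by
    rw [hG, show (39916800 : ℕ) = 55 * 725760 by norm_num] at hdiv
    exact Nat.dvd_of_mul_dvd_mul_left (by norm_num) hdiv
  have h7 : Nat.Coprime n 7 :=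
    Nat.Coprime.symm ((Nat.Prime.coprime_iff_not_dvd (by norm_num)).2 fun hh => h.not_seven_dvd h2 (hG ▸ hh.mul_left 55))
  have h5 : Nat.Coprime n 5 :=
    Nat.Coprime.symm ((Nat.Prime.coprime_iff_not_dvd (by norm_num)).2 fun hh => h.not_twentyfive_dvd
      (hG ▸ (show 25 = 5 * 5 by norm_num) ▸ mul_dvd_mul (by norm_num : 5 ∣ 11 * 5) hh))
  rw [show (725760 : ℕ) = 20736 * 5 * 7 by norm_num] at hn
  have hn' := h5.dvd_of_dvd_mul_right (h7.dvd_of_dvd_mul_right hn)
  have h64 : ¬ 64 ∣ n := fun hh => h.not_sixtyfour_dvd hev (hG ▸ hh.mul_left _)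
  have key : ∀ n ∈ (20736 : ℕ).divisors, n % 11 = 1 → ¬ 64 ∣ n → 110 ∣ 55 * n → n = 12 ∨ n = 144 := by
    decide +kernel
  rcases key n (Nat.mem_divisors.2 ⟨hn', by norm_num⟩) hnmod h64 (hG ▸ h110) with e | e
  · exact Or.inl ⟨e, by rw [hG, e]⟩
  · exact Or.inr ⟨e, by rw [hG, e]⟩

end CfsgLib.Perm.DegreeEleven
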