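import Mathlib
import Cfsg.Agent.Lib.Perm.DegreeEleven.Order
import Cfsg.Agent.Lib.SmallGroups.PrimeDegree
import Cfsg.Agent.Lib.SmallGroups.PSLPrime
import Cfsg.Agent.S0676

/-!
# Non-solvable transitive groups of degree eleven
-/

set_option autoImplicit false

namespace CfsgLib.Perm.DegreeEleven

open Equiv MulAction Finset

variable {α : Type*} [Fintype α] [DecidableEq α] {G : Subgroup (Perm α)}

/-- The quadratic count of fixed points in a doubly transitive group. -/
theorem sum_fixed_sq (hα : Fintype.card α = 11) (h2 : IsMultiplyPretransitive G α 2) [Fintype G] :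
    ∑ g : G, (((univ.filter fun x => (g : Perm α) x = x).card : ℤ) - 1) ^ (2 : ℕ) = (Fintype.card G : ℤ) := by
  classical
  haveI h1 : IsPretransitive G α := is_one_pretransitive_iff.1
    (@isMultiplyPretransitive_of_le G α _ _ 1 2 h2 (by norm_num) (by simp [hα]) _)
  haveI : Nonempty α := Fintype.card_pos_iff.1 (by omega)
  have horb1 : Fintype.card (orbitRel.Quotient G α) = 1 := by
    haveI : Subsingleton (orbitRel.Quotient G α) := ⟨fun p q => by
      induction p using Quotient.inductionOn' with
      | h x => induction q using Quotient.inductionOn' with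
        | h y => exact Quotient.sound' (MulAction.exists_smul_eq G y x)⟩
    obtain ⟨a⟩ := ‹Nonempty α›
    exact Fintype.card_eq_one_iff.2 ⟨Quotient.mk'' a, fun y => Subsingleton.elim _ _⟩
  have horb2 : Fintype.card (orbitRel.Quotient G (α × α)) = 2 := by
    let f : orbitRel.Quotient G (α × α) → Bool := fun q => Quotient.liftOn' q (fun x => decide (x.1 = x.2)) (by
      rintro x y ⟨g, rfl⟩
      simp)
    obtain ⟨a, b, hab⟩ := Fintype.exists_pair_of_one_lt_card (α := α) (by omega)
    rw [Fintype.card_of_bijective (f := f) ⟨fun p q => ?_, fun v => ?_⟩, Fintype.card_bool]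
    · induction p using Quotient.inductionOn' with
      | h x => induction q using Quotient.inductionOn' with
        | h y =>
          intro e
          have e' : (x.1 = x.2 ↔ y.1 = y.2) := by simpa [f] using e
          apply Quotient.sound'
          by_cases hy : y.1 = y.2
          · obtain ⟨g, hg⟩ := MulAction.exists_smul_eq G y.1 x.1
            exact ⟨g, Prod.ext hg (show g • y.2 = x.2 by rw [← hy, hg]; exact e'.2 hy)⟩
          · obtain ⟨g, hg1, hg2⟩ := is_two_pretransitive_iff.1 h2 hy (fun hx => hy (e'.1 hx))
            exact ⟨g, Prod.ext hg1 hg2⟩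
    · cases v with
      | false => exact ⟨Quotient.mk'' (a, b), by simp [f, hab]⟩
      | true => exact ⟨Quotient.mk'' (a, a), by simp [f]⟩
  have e1 := sum_card_fixedBy_eq_card_orbits_mul_card_group G α
  have e2 := sum_card_fixedBy_eq_card_orbits_mul_card_group G (α × α)
  rw [horb1, one_mul] at e1
  rw [horb2] at e2
  have hf1 : ∀ g : G, Fintype.card (fixedBy α g) = (univ.filter fun x => (g : Perm α) x = x).card := fun g =>
    Fintype.card_subtype _
  have hf2 : ∀ g : G, Fintype.card (fixedBy (α × α) g) = (univ.filter fun x => (g : Perm α) x = x).card ^ 2 := by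
    intro g
    rw [← hf1, pow_two, ← Fintype.card_prod]
    exact Fintype.card_congr
      { toFun := fun x => (⟨x.1.1, congrArg Prod.fst x.2⟩, ⟨x.1.2, congrArg Prod.snd x.2⟩)
        invFun := fun x => ⟨(x.1.1, x.2.1), Prod.ext x.1.2 x.2.2⟩
        left_inv := fun _ => rfl
        right_inv := fun _ => rfl }
  simp only [hf1] at e1
  simp only [hf2] at e2
  have e1' : ∑ g : G, ((univ.filter fun x => (g : Perm α) x = x).card : ℤ) = Fintype.card G := by exact_mod_cast e1
  have e2' : ∑ g : G, ((univ.filter fun x => (g : Perm α) x = x).card : ℤ) ^ 2 = 2 * Fintype.card G := by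
    exact_mod_cast e2
  simp only [sub_sq, Finset.sum_add_distrib, Finset.sum_sub_distrib, mul_one, one_pow, ← Finset.mul_sum,
    Finset.sum_const, card_univ, nsmul_eq_mul, mul_one, e1', e2']
  ring

theorem card_fix (g : Perm α) : (univ.filter fun x => g x = x).card = Fintype.card α - g.support.card := by
  rw [← card_compl]
  congr 1
  ext x
  simp

/-- The centraliser of a product of two three-cycles is small. -/
theorem Ctx.card_centralizer_le (h : Ctx G) (hev : G ≤ alternatingGroup α) {u : G}
    (hu : orderOf u = 3) (hs : (u : Perm α).support.card = 6) :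
    Nat.card (Subgroup.centralizer ({u} : Set G)) ≤ 18 := by
  obtain ⟨a, ha⟩ : (u : Perm α).support.Nonempty := card_pos.1 (by omega)
  have hsub : ({a, (u : Perm α) a, (u : Perm α) ((u : Perm α) a)} : Finset α) ⊆ (u : Perm α).support := by
    simp only [insert_subset_iff, singleton_subset_iff]
    exact ⟨ha, Perm.apply_mem_support.2 ha, Perm.apply_mem_support.2 (Perm.apply_mem_support.2 ha)⟩
  obtain ⟨d, hd⟩ : ((u : Perm α).support \ {a, (u : Perm α) a, (u : Perm α) ((u : Perm α) a)}).Nonempty := by
    refine card_pos.1 ?_
    rw [card_sdiff_of_subset hsub, hs]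
    have := card_le_three (a := a) (b := (u : Perm α) a) (c := (u : Perm α) ((u : Perm α) a))
    omega
  rw [mem_sdiff] at hd
  have hu3 : (u : Perm α) * (u : Perm α) * (u : Perm α) = 1 := by
    have : u ^ 3 = 1 := hu ▸ pow_orderOf_eq_one u
    simpa [pow_succ] using congrArg Subtype.val this
  have horb : ∀ x, ({x, (u : Perm α) x, (u : Perm α) ((u : Perm α) x)} : Finset α).image (u : Perm α) =
      {x, (u : Perm α) x, (u : Perm α) ((u : Perm α) x)} := by
    intro x
    have := congrArg (fun g : Perm α => g x) hu3
    simp only [Perm.mul_apply, Perm.one_apply] at this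
    simp only [image_insert, image_singleton, this]
    ext y; simp [or_comm, or_left_comm]
  let T : α → Finset α := fun x => {x, (u : Perm α) x, (u : Perm α) ((u : Perm α) x)}
  have hmaps : ∀ c : Subgroup.centralizer ({u} : Set G), ∀ x,
      ((c : G) : Perm α) ((u : Perm α) x) = (u : Perm α) (((c : G) : Perm α) x) := by
    intro c x
    have h1 : u * (c : G) = (c : G) * u := Subgroup.mem_centralizer_iff.1 c.2 u rfl
    exact (congrArg (fun g : G => (g : Perm α) x) h1).symm
  let F : Subgroup.centralizer ({u} : Set G) →
      (Σ x : (u : Perm α).support, ((u : Perm α).support \ T x : Finset α)) := fun c =>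
    ⟨⟨((c : G) : Perm α) a, by
        rw [Perm.mem_support, ← hmaps]; exact fun e => Perm.mem_support.1 ha (Equiv.injective _ e)⟩,
      ⟨((c : G) : Perm α) d, by
        rw [mem_sdiff]
        refine ⟨by rw [Perm.mem_support, ← hmaps]; exact fun e => Perm.mem_support.1 hd.1 (Equiv.injective _ e), ?_⟩
        simp only [T, ← hmaps, mem_insert, mem_singleton, EmbeddingLike.apply_eq_iff_eq]
        simpa only [mem_insert, mem_singleton] using hd.2⟩⟩
  have hinj : Function.Injective F := by
    intro c c' e
    have e1 : ((c : G) : Perm α) a = ((c' : G) : Perm α) a := congrArg (fun s => (s.1 : α)) e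
    have e2 : ((c : G) : Perm α) d = ((c' : G) : Perm α) d := congrArg (fun s => (s.2 : α)) e
    set w : Subgroup.centralizer ({u} : Set G) := c'⁻¹ * c
    have hwa : ((w : G) : Perm α) a = a := by simp [w, e1]
    have hwd : ((w : G) : Perm α) d = d := by simp [w, e2]
    have hTd : ∀ x, ((w : G) : Perm α) x = x → ∀ y ∈ T x, ((w : G) : Perm α) y = y := by
      intro x hx y hy
      simp only [T, mem_insert, mem_singleton] at hy
      rcases hy with rfl | rfl | rfl <;> simp only [hmaps, hx]
    have hcov : (u : Perm α).support ⊆ T a ∪ T d := by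
      refine (eq_of_subset_of_card_le (union_subset hsub ?_) ?_).symm.subset
      · simp only [insert_subset_iff, singleton_subset_iff, T]
        exact ⟨hd.1, Perm.apply_mem_support.2 hd.1, Perm.apply_mem_support.2 (Perm.apply_mem_support.2 hd.1)⟩
      · have hdis : Disjoint (T a) (T d) := by
          rw [disjoint_left]
          intro y hya hyd
          apply hd.2
          have key : ∀ x, (u : Perm α) x ∈ T a → x ∈ T a := fun x hx => by
            have hx' : (u : Perm α) x ∈ (T a).image (u : Perm α) := by rw [horb]; exact hx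
            simpa using hx'
          simp only [T, mem_insert, mem_singleton] at hyd
          rcases hyd with rfl | rfl | rfl
          · exact hya
          · exact key _ hya
          · exact key _ (key _ hya)
        have hT3 : ∀ x ∈ (u : Perm α).support, (T x).card = 3 := by
          intro x hx
          have h1 := congrArg (fun g : Perm α => g x) hu3
          simp only [Perm.mul_apply, Perm.one_apply] at h1
          have hx1 : (u : Perm α) x ≠ x := Perm.mem_support.1 hx
          refine card_eq_three.2 ⟨_, _, _, hx1.symm, ?_, fun e => hx1 ((u : Perm α).injective e).symm, rfl⟩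
          intro e
          rw [← e] at h1
          exact hx1 h1
        rw [card_union_of_disjoint hdis, hT3 a ha, hT3 d hd.1, hs]
    have hfix : ((w : G) : Perm α).support ⊆ (u : Perm α).supportᶜ := fun y hy => by
      rw [mem_compl]; intro hyu
      rcases mem_union.1 (hcov hyu) with hy' | hy'
      · exact Perm.mem_support.1 hy (hTd a hwa y hy')
      · exact Perm.mem_support.1 hy (hTd d hwd y hy')
    by_contra hne
    refine h.no_small (w : G).2 (fun e' => hne ?_) (hev (w : G).2) ?_
    · exact (inv_mul_eq_one.1 (Subtype.ext (Subtype.ext e') : w = 1)).symm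
    · have := card_le_card hfix
      rw [card_compl, h.card, hs] at this
      omega
  refine (Nat.card_le_card_of_injective F hinj).trans ?_
  rw [Nat.card_eq_fintype_card, Fintype.card_sigma]
  refine (sum_le_card_nsmul _ _ 3 fun x _ => ?_).trans (by rw [card_univ, Fintype.card_coe, hs]; rfl)
  rw [Fintype.card_coe]
  have h1 := congrArg (fun g : Perm α => g (x : α)) hu3
  simp only [Perm.mul_apply, Perm.one_apply] at h1
  have hx1 : (u : Perm α) x ≠ x := Perm.mem_support.1 x.2
  rw [card_sdiff_of_subset, hs]
  · have : (T x).card = 3 := by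
      refine card_eq_three.2 ⟨_, _, _, hx1.symm, ?_, fun e => hx1 ((u : Perm α).injective e).symm, rfl⟩
      intro e
      rw [← e] at h1
      exact hx1 h1
    omega
  · simp only [insert_subset_iff, singleton_subset_iff, T]
    exact ⟨x.2, Perm.apply_mem_support.2 x.2, Perm.apply_mem_support.2 (Perm.apply_mem_support.2 x.2)⟩

/-- In a group of order `7920` no element is a product of exactly two three-cycles. -/
theorem Ctx.no_double_three (h : Ctx G) (hns : ¬ Group.IsSolvable G) (hev : G ≤ alternatingGroup α)
    (hG : Nat.card G = 7920) (hn : Nat.card (Sylow 11 G) = 144) {u : G} (hu : orderOf u = 3) :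
    (u : Perm α).support.card ≠ 6 := by
  intro hs
  classical
  haveI := h.prim.toIsPretransitive
  letI := Fintype.ofFinite G
  have hsum := sum_fixed_sq h.card (h.two_pretransitive hns)
  set φ : G → ℤ := fun g => (((univ.filter fun x => (g : Perm α) x = x).card : ℤ) - 1) ^ 2
  let A : Finset G := univ.filter fun g => IsConj u g
  let B : Finset G := univ.filter fun g => orderOf g = 11
  have hC := h.card_centralizer_le hev hu hs
  have hA : 440 ≤ A.card := by
    have hAc : Nat.card (orbit (ConjAct G) u) = A.card := by
      rw [Nat.card_eq_fintype_card, ← Set.toFinset_card]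
      congr 1
      ext g
      simp only [A, Set.mem_toFinset, mem_filter, mem_univ, true_and, ConjAct.mem_orbit_conjAct]
      exact isConj_comm
    have h1 := (stabilizer (ConjAct G) u).index_mul_card
    rw [index_stabilizer, ← Nat.card_coe_set_eq, hAc,
      show Nat.card (ConjAct G) = Nat.card G from rfl, hG, ConjAct.stabilizer_eq_centralizer] at h1
    have hC' : Nat.card (Subgroup.centralizer ({ConjAct.toConjAct u} : Set (ConjAct G))) ≤ 18 := hC
    by_contra hlt
    have := Nat.mul_le_mul (show A.card ≤ 439 by omega) hC'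
    omega
  have hA16 : ∀ g ∈ A, φ g = 16 := by
    intro g hg
    obtain ⟨c, rfl⟩ := isConj_iff.1 (mem_filter.1 hg).2
    simp only [φ, card_fix, Subgroup.coe_mul, Subgroup.coe_inv, Perm.card_support_conj, hs, h.card]
    norm_num
  have hB : 1440 ≤ B.card := by
    have hord : ∀ (P : Sylow 11 G) (x : (P : Subgroup G)), x ≠ 1 → orderOf (x : G) = 11 := by
      intro P x hx
      rw [Subgroup.orderOf_coe]
      have h11 := orderOf_dvd_natCard x
      rw [card_sylow_eleven h.card P] at h11
      exact ((Nat.dvd_prime (by norm_num)).1 h11).resolve_left fun e => hx (orderOf_eq_one_iff.1 e)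
    let f : (Σ P : Sylow 11 G, {x : (P : Subgroup G) // x ≠ 1}) → B := fun s => ⟨(s.2.1 : G), by
      simp only [B, mem_filter, mem_univ, true_and]
      exact hord _ _ s.2.2⟩
    have hf : Function.Injective f := by
      rintro ⟨P, x, hx⟩ ⟨Q, y, hy⟩ e
      have e' : (x : G) = y := congrArg Subtype.val e
      have hPQ : P = Q := by
        refine Sylow.ext ?_
        have hzP : Subgroup.zpowers (x : G) = P := by
          refine Subgroup.eq_of_le_of_card_ge (Subgroup.zpowers_le.2 x.2) ?_
          rw [Nat.card_zpowers, card_sylow_eleven h.card P, hord P x hx]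
        have hzQ : Subgroup.zpowers (y : G) = Q := by
          refine Subgroup.eq_of_le_of_card_ge (Subgroup.zpowers_le.2 y.2) ?_
          rw [Nat.card_zpowers, card_sylow_eleven h.card Q, hord Q y hy]
        rw [← hzP, ← hzQ, e']
      subst hPQ
      congr 2
      exact Subtype.ext e'
    have h1 := Fintype.card_le_of_injective f hf
    rw [Fintype.card_sigma, Fintype.card_coe] at h1
    refine le_trans ?_ h1
    rw [Finset.sum_congr rfl (g := fun _ => 10) fun P _ => by
      rw [Fintype.card_subtype_compl, Fintype.card_subtype_eq, ← Nat.card_eq_fintype_card,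
        card_sylow_eleven h.card P], sum_const, card_univ, ← Nat.card_eq_fintype_card, hn]
    rfl
  have hB1 : ∀ g ∈ B, φ g = 1 := by
    intro g hg
    have ho : orderOf (g : Perm α) = 11 := by rw [Subgroup.orderOf_coe]; exact (mem_filter.1 hg).2
    obtain ⟨m, hm, -, hms, -⟩ := prime_type (by norm_num : Nat.Prime 11) ho
    have := (g : Perm α).support.card_le_univ
    rw [h.card, hms] at this
    obtain rfl : m = 1 := by omega
    simp only [φ, card_fix, hms, h.card]
    norm_num
  have hdis : Disjoint A B := disjoint_left.2 fun g hA' hB' => by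
    have h1 := hA16 g hA'; have h2 := hB1 g hB'; omega
  have h1notin : (1 : G) ∉ A ∪ B := by
    have h100 : φ 1 = 100 := by simp [φ, h.card]
    rw [mem_union]
    rintro (h' | h')
    · have := hA16 1 h'; omega
    · have := hB1 1 h'; omega
  have hle : ∑ g ∈ insert 1 (A ∪ B), φ g ≤ ∑ g : G, φ g :=
    sum_le_sum_of_subset_of_nonneg (subset_univ _) fun g _ _ => sq_nonneg _
  rw [sum_insert h1notin, sum_union hdis, sum_congr rfl hA16, sum_congr rfl hB1, sum_const, sum_const,
    hsum, show φ 1 = 100 by simp [φ, h.card], ← Nat.card_eq_fintype_card, hG, nsmul_eq_mul,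
    nsmul_eq_mul] at hle
  have hA' : (440 : ℤ) ≤ A.card := by exact_mod_cast hA
  have hB' : (1440 : ℤ) ≤ B.card := by exact_mod_cast hB
  norm_num at hle
  linarith

/-- Only the identity fixes four points. -/
theorem Ctx.sharp_four (h : Ctx G) (hns : ¬ Group.IsSolvable G) (hev : G ≤ alternatingGroup α)
    (hG : Nat.card G = 7920) (hn : Nat.card (Sylow 11 G) = 144) {g : G}
    (hg : 4 ≤ (univ.filter fun x => (g : Perm α) x = x).card) : g = 1 := by
  by_contra hne
  obtain ⟨q, hq, hqd⟩ := Nat.exists_prime_and_dvd (n := orderOf g) (fun e => hne (orderOf_eq_one_iff.1 e))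
  set u := g ^ (orderOf g / q)
  have huo : orderOf u = q := orderOf_pow_orderOf_div (orderOf_pos g).ne' hqd
  have huo' : orderOf (u : Perm α) = q := by rw [Subgroup.orderOf_coe, huo]
  obtain ⟨m, hm, -, hms, hsg⟩ := prime_type hq huo'
  have hsg1 : Perm.sign (u : Perm α) = 1 := hev u.2
  have hu7 : (u : Perm α).support.card ≤ 7 := by
    have h1 : (u : Perm α).support ⊆ (g : Perm α).support := by
      simp only [u, Subgroup.coe_pow]; exact Perm.support_pow_le _ _
    have := card_le_card h1
    rw [card_fix, h.card] at hg
    omega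
  have hune : (u : Perm α) ≠ 1 := fun e => hq.ne_one (by rw [← huo', e, orderOf_one])
  have h6 : (u : Perm α).support.card = 6 ∨ (u : Perm α).support.card = 7 := by
    by_contra hc
    exact h.no_small u.2 hune hsg1 (by omega)
  have hq7 : q ∣ 6 ∨ q ∣ 7 := h6.imp (fun e => ⟨m, by rw [← e, hms, mul_comm]⟩) fun e => ⟨m, by rw [← e, hms, mul_comm]⟩
  have hqle : q ≤ 7 := hq7.elim (fun e => (Nat.le_of_dvd (by norm_num) e).trans (by norm_num)) fun e => Nat.le_of_dvd (by norm_num) e
  have hq2 := hq.two_le
  interval_cases q
  · obtain rfl : m = 3 := by omega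
    rw [hsg] at hsg1
    exact absurd hsg1 (by decide)
  · obtain rfl : m = 2 := by omega
    exact h.no_double_three hns hev hG hn huo (by omega)
  · norm_num at hq
  · omega
  · norm_num at hq
  · exact h.not_seven_dvd (h.two_pretransitive hns) (huo ▸ orderOf_dvd_natCard u)

theorem Ctx.stabilizer_four (h : Ctx G) (hns : ¬ Group.IsSolvable G) (hev : G ≤ alternatingGroup α)
    (hG : Nat.card G = 7920) (hn : Nat.card (Sylow 11 G) = 144) (x : Fin 4 ↪ α) :
    stabilizer G x = ⊥ := by
  rw [Subgroup.eq_bot_iff_forall]
  intro g hg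
  refine h.sharp_four hns hev hG hn ?_
  have hsub : univ.map x ⊆ univ.filter fun y => (g : Perm α) y = y := by
    intro y hy
    obtain ⟨i, -, rfl⟩ := mem_map.1 hy
    exact mem_filter.2 ⟨mem_univ _, DFunLike.congr_fun (mem_stabilizer_iff.1 hg) i⟩
  simpa using card_le_card hsub

/-- A transitive action on quadruples from the order. -/
theorem Ctx.four_pretransitive (h : Ctx G) (hns : ¬ Group.IsSolvable G) (hev : G ≤ alternatingGroup α)
    (hG : Nat.card G = 7920) (hn : Nat.card (Sylow 11 G) = 144) : IsMultiplyPretransitive G α 4 := by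
  obtain ⟨x⟩ : Nonempty (Fin 4 ↪ α) := Function.Embedding.nonempty_of_card_le (by simp [h.card])
  have h1 := (stabilizer G x).index_mul_card
  rw [h.stabilizer_four hns hev hG hn x, Subgroup.index_bot, Subgroup.card_bot] at h1
  have horb : (orbit G x).ncard = 7920 := by
    have h3 := index_stabilizer G x
    rw [h.stabilizer_four hns hev hG hn x, Subgroup.index_bot, hG] at h3
    exact h3.symm
  have hall : orbit G x = Set.univ := by
    refine Set.eq_of_subset_of_ncard_le (Set.subset_univ _) ?_
    rw [Set.ncard_univ, horb, Nat.card_eq_fintype_card, Fintype.card_embedding_eq, h.card, Fintype.card_fin]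
    rfl
  exact ⟨fun y z => by
    obtain ⟨a, ha⟩ := hall ▸ Set.mem_univ y
    obtain ⟨b, hb⟩ := hall ▸ Set.mem_univ z
    exact ⟨b * a⁻¹, by rw [← ha, ← hb]; exact (mul_smul b a⁻¹ (a • x)).trans (congrArg (b • ·) (inv_smul_smul a x))⟩⟩

/-- The group of order `660`. -/
theorem Ctx.psl (h : Ctx G) (hG : Nat.card G = 660) (hn : Nat.card (Sylow 11 G) = 12) :
    Nonempty (G ≃* Matrix.ProjectiveSpecialLinearGroup (Fin 2) (ZMod 11)) := by
  haveI := h.prim
  obtain ⟨a⟩ : Nonempty α := Fintype.card_pos_iff.1 (by rw [h.card]; norm_num)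
  haveI : IsSimpleGroup G := CfsgLib.SmallGroups.PrimeDegree.isSimple_of_arith a (p := 11) (m := 60)
    (by rw [hG]) (by norm_num) 1 (Or.inl rfl) (by rw [Nat.card_eq_fintype_card, h.card]) (by decide +kernel)
  refine CfsgLib.SmallGroups.PSLPrime.psl 11 5 (by rw [hG]) (by norm_num) (by norm_num) (by rw [hn])
    (fun k hk => ?_) (ZMod.card 11)
  have : k ≤ 4 := by
    by_contra hk'
    have := Nat.pow_le_pow_right (show 0 < 2 by norm_num) (show 5 ≤ k by omega)
    omega
  interval_cases k <;> norm_num at hk

end CfsgLib.Perm.DegreeEleven
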